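import Mathlib
import Cfsg.Prelude.Def_AxialAlgebras

set_option autoImplicit false
set_option linter.unusedSimpArgs false

/-!
Majorana axes: decomposition, the invariant `m a x - (a + x)/32` and the fusion identities (owner: helper28).
-/

namespace CfsgLib.Sakuma

open Cfsg.Axial

variable {V : Type*} [AddCommGroup V] [Module ℝ V]

/-- The Majorana setting without the Norton inequality. -/
structure Amb (m : V →ₗ[ℝ] V →ₗ[ℝ] V) (B : LinearMap.BilinForm ℝ V) : Prop where
  comm : ∀ u v : V, m u v = m v u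
  symm : ∀ u v : V, B u v = B v u
  pos : ∀ u : V, u ≠ 0 → 0 < B u u
  assoc : ∀ u v w : V, B u (m v w) = B (m u v) w

theorem Amb.of {m : V →ₗ[ℝ] V →ₗ[ℝ] V} {B : LinearMap.BilinForm ℝ V} (h : IsMajoranaAmbient m B) :
    Amb m B := ⟨h.1, h.2.1, h.2.2.1, h.2.2.2.1⟩

variable {m : V →ₗ[ℝ] V →ₗ[ℝ] V} {B : LinearMap.BilinForm ℝ V} {μ : V ≃ₗ[ℝ] V} {a : V}

/-- The invariant part of the product of an axis with a vector. -/
noncomputable def sg (m : V →ₗ[ℝ] V →ₗ[ℝ] V) (a x : V) : V := m a x - (1 / 32 : ℝ) • (a + x)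

theorem mem_eigen {c : ℝ} {v : V} : v ∈ eigen m a c ↔ m a v = c • v :=
  Module.End.mem_eigenspace_iff

theorem eigenSum_singleton (c : ℝ) : eigenSum m a ({c} : Set ℝ) = eigen m a c := by
  simp [eigenSum]

theorem eigenSum_pair (c d : ℝ) : eigenSum m a ({c, d} : Set ℝ) = eigen m a c ⊔ eigen m a d := by
  simp [eigenSum, iSup_or, iSup_sup_eq]

theorem axis_idem (hp : IsMajoranaPair m B μ a) : m a a = a := hp.2.2.1.1.2.1

theorem orth (hA : Amb m B) {c d : ℝ} {u v : V} (hu : m a u = c • u) (hv : m a v = d • v)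
    (hcd : c ≠ d) : B u v = 0 := by
  have h : B u (m a v) = B (m a u) v := by rw [hA.assoc, hA.comm u a]
  rw [hu, hv, map_smul, map_smul, LinearMap.smul_apply, smul_eq_mul, smul_eq_mul] at h
  by_contra hne
  exact hcd (mul_right_cancel₀ hne h).symm

theorem orth_axis (hA : Amb m B) (hp : IsMajoranaPair m B μ a) {c : ℝ} {u : V}
    (hu : m a u = c • u) (hc : c ≠ 1) : B a u = 0 :=
  orth hA (a := a) (c := 1) (by rw [axis_idem hp, one_smul]) hu (Ne.symm hc)

theorem map_axis (hp : IsMajoranaPair m B μ a) : μ a = a := by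
  refine hp.2.2.2.1 a ?_
  have h : a ∈ eigen m a 1 := by rw [mem_eigen, axis_idem hp, one_smul]
  exact (le_iSup₂ (f := fun c _ => eigen m a c) (1 : ℝ) (by simp)) h

/-- Decomposition of a vector along an axis. -/
theorem decomp (hA : Amb m B) (hp : IsMajoranaPair m B μ a) (hn : B a a = 1) (x : V) :
    ∃ u v w : V, x = B a x • a + u + v + w ∧ m a u = 0 ∧ m a v = (1 / 4 : ℝ) • v ∧
      m a w = (1 / 32 : ℝ) • w ∧ μ x = B a x • a + u + v - w := by
  obtain ⟨⟨-, -, htop, -⟩, hprim⟩ := hp.2.2.1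
  have hx : x ∈ eigenSum m a majoranaSpectrum := htop ▸ Submodule.mem_top
  have hs : eigenSum m a majoranaSpectrum =
      eigen m a 1 ⊔ eigen m a 0 ⊔ eigen m a (1 / 4) ⊔ eigen m a (1 / 32) := by
    simp [eigenSum, majoranaSpectrum, iSup_or, iSup_sup_eq, sup_assoc]
  rw [hs] at hx
  obtain ⟨y, hy, w, hw, rfl⟩ := Submodule.mem_sup.1 hx
  obtain ⟨y', hy', v, hv, rfl⟩ := Submodule.mem_sup.1 hy
  obtain ⟨y'', hy'', u, hu, rfl⟩ := Submodule.mem_sup.1 hy'
  have mem : ∀ {c : ℝ} {z : V}, z ∈ eigen m a c → c ∈ ({1, 0, 1 / 4} : Set ℝ) → μ z = z :=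
    fun {c z} hz hc => hp.2.2.2.1 z
      ((le_iSup₂ (f := fun c _ => eigen m a c) c hc) hz)
  have hμu : μ u = u := mem hu (by simp)
  have hμv : μ v = v := mem hv (by simp)
  have hμw : μ w = -w := hp.2.2.2.2 w hw
  rw [hprim, Submodule.mem_span_singleton] at hy''
  obtain ⟨t, rfl⟩ := hy''
  rw [mem_eigen] at hu hv hw
  rw [zero_smul] at hu
  have ht : B a (t • a + u + v + w) = t := by
    rw [map_add, map_add, map_add, map_smul, hn, smul_eq_mul, mul_one,
      orth_axis hA hp (c := 0) (by rw [hu, zero_smul]) (by norm_num),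
      orth_axis hA hp hv (by norm_num), orth_axis hA hp hw (by norm_num)]
    ring
  refine ⟨u, v, w, by rw [ht], hu, hv, hw, ?_⟩
  rw [ht, map_add, map_add, map_add, map_smul, map_axis hp, hμu, hμv, hμw]
  abel

theorem mu_mu (hA : Amb m B) (hp : IsMajoranaPair m B μ a) (hn : B a a = 1) (x : V) : μ (μ x) = x := by
  obtain ⟨u, v, w, hx, hu, hv, hw, hμ⟩ := decomp hA hp hn x
  obtain ⟨u', v', w', hx', -, -, -, hμ'⟩ := decomp hA hp hn (μ x)
  have hl : B a (μ x) = B a x := by
    have h := hp.2.1 a x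
    rwa [map_axis hp] at h
  have mem : ∀ {c : ℝ} {z : V}, z ∈ eigen m a c → c ∈ ({1, 0, 1 / 4} : Set ℝ) → μ z = z :=
    fun {c z} hz hc => hp.2.2.2.1 z
      ((le_iSup₂ (f := fun c _ => eigen m a c) c hc) hz)
  rw [hμ, map_sub, map_add, map_add, map_smul, map_axis hp,
    mem (mem_eigen.2 (by rw [hu, zero_smul] : m a u = (0 : ℝ) • u)) (by simp),
    mem (mem_eigen.2 hv) (by simp),
    show μ w = -w from hp.2.2.2.2 w (mem_eigen.2 hw), sub_neg_eq_add, ← hx]

theorem map_sg {φ : V ≃ₗ[ℝ] V} (hφ : ∀ u v, φ (m u v) = m (φ u) (φ v)) (a x : V) :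
    φ (sg m a x) = sg m (φ a) (φ x) := by
  rw [sg, sg, map_sub, hφ, map_smul, map_add]

theorem sg_comm (hA : Amb m B) (a x : V) : sg m a x = sg m x a := by
  rw [sg, sg, hA.comm, add_comm a x]

theorem mu_sg (hA : Amb m B) (hp : IsMajoranaPair m B μ a) (hn : B a a = 1) (x : V) :
    μ (sg m a x) = sg m a x := by
  obtain ⟨u, v, w, hx, hu, hv, hw, hμ⟩ := decomp hA hp hn x
  rw [map_sg hp.1, map_axis hp, hμ]
  generalize B a x = t at hx
  subst hx
  simp only [sg, map_add, map_sub, map_smul, axis_idem hp, hu, hv, hw]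
  module

/-- The product of an axis with its invariant part. -/
theorem mul_sg (hA : Amb m B) (hp : IsMajoranaPair m B μ a) (hn : B a a = 1) (x : V) :
    m a (sg m a x) = (((31 * B a x - 1) / 32) + (1 / 8 - 4 * B a x) * (7 / 128)) • a
      + (7 / 32 : ℝ) • sg m a x + (7 / 2048 : ℝ) • (x + μ x) := by
  obtain ⟨u, v, w, hx, hu, hv, hw, hμ⟩ := decomp hA hp hn x
  rw [hμ]
  generalize B a x = t at hx
  subst hx
  simp only [sg, map_add, map_sub, map_smul, map_zero, smul_zero, axis_idem hp, hu, hv, hw]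
  module

/-- The fusion identities for the projections of a unit vector. -/
theorem fusion (hA : Amb m B) (hp : IsMajoranaPair m B μ a) (hn : B a a = 1) (x : V)
    (hx1 : B x x = 1) (hxa : B x (m a x) = B a x) {U W : V}
    (hU : U = (-4 : ℝ) • sg m a x + (3 * B a x - 1 / 8) • a + (7 / 16 : ℝ) • (x + μ x))
    (hW : W = (4 : ℝ) • sg m a x + (1 / 8 - 4 * B a x) • a + (1 / 16 : ℝ) • (x + μ x)) :
    m a (m U U) = 0 ∧ m a (m U W) = (1 / 4 : ℝ) • m U W ∧
      m a (m W W) = ((4 * B a x - 4 * (B a x) ^ 2 - (1 - B x (μ x)) / 16) / 4) • a := by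
  obtain ⟨u, v, w, hx, hu, hv, hw, hμ⟩ := decomp hA hp hn x
  have hu' : m a u = (0 : ℝ) • u := by rw [hu, zero_smul]
  obtain ⟨t, ht⟩ : ∃ t, t = B a x := ⟨_, rfl⟩
  rw [← ht] at hx hμ hU hW hxa ⊢
  have eU : U = u := by
    rw [hU, hμ, hx]
    simp only [sg, map_add, map_smul, axis_idem hp, hu, hv, hw]
    module
  have eW : W = v := by
    rw [hW, hμ, hx]
    simp only [sg, map_add, map_smul, axis_idem hp, hu, hv, hw]
    module
  subst eU eW
  obtain ⟨-, -, -, hfus⟩ := hp.2.2.1.1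
  have s0 : (0 : ℝ) ∈ majoranaSpectrum := by simp [majoranaSpectrum]
  have s4 : (1 / 4 : ℝ) ∈ majoranaSpectrum := by simp [majoranaSpectrum]
  refine ⟨?_, ?_, ?_⟩
  · have h := hfus 0 s0 0 s0 U (mem_eigen.2 hu') U (mem_eigen.2 hu')
    rw [show monsterLaw (1 / 4) (1 / 32) (0 : ℝ) 0 = {0} by simp [monsterLaw],
      eigenSum_singleton, mem_eigen, zero_smul] at h
    exact h
  · have h := hfus 0 s0 (1 / 4) s4 U (mem_eigen.2 hu') W (mem_eigen.2 hv)
    rw [show monsterLaw (1 / 4) (1 / 32) (0 : ℝ) (1 / 4) = {1 / 4} by norm_num [monsterLaw],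
      eigenSum_singleton, mem_eigen] at h
    exact h
  · have h := hfus (1 / 4) s4 (1 / 4) s4 W (mem_eigen.2 hv) W (mem_eigen.2 hv)
    rw [show monsterLaw (1 / 4) (1 / 32) (1 / 4 : ℝ) (1 / 4) = {1, 0} by norm_num [monsterLaw],
      eigenSum_pair] at h
    obtain ⟨y, hy, z, hz, e⟩ := Submodule.mem_sup.1 h
    rw [hp.2.2.1.2, Submodule.mem_span_singleton] at hy
    obtain ⟨c, rfl⟩ := hy
    rw [mem_eigen, zero_smul] at hz
    have hc : c = B a (m W W) := by
      rw [← e, map_add, map_smul, hn, orth_axis hA hp (c := 0) (by rw [hz, zero_smul]) (by norm_num),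
        smul_eq_mul, mul_one, add_zero]
    have o1 := orth_axis hA hp hu' (by norm_num)
    have o2 := orth_axis hA hp hv (by norm_num)
    have o3 := orth_axis hA hp hw (by norm_num)
    have o4 := orth hA hu' hv (by norm_num)
    have o5 := orth hA hu' hw (by norm_num)
    have o6 := orth hA hv hw (by norm_num)
    have p1 : B U a = 0 := by rw [hA.symm, o1]
    have p2 : B W a = 0 := by rw [hA.symm, o2]
    have p3 : B w a = 0 := by rw [hA.symm, o3]
    have p4 : B W U = 0 := by rw [hA.symm, o4]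
    have p5 : B w U = 0 := by rw [hA.symm, o5]
    have p6 : B w W = 0 := by rw [hA.symm, o6]
    have q1 : B x x = t ^ 2 + B U U + B W W + B w w := by
      rw [hx]
      simp only [map_add, map_smul, LinearMap.add_apply, LinearMap.smul_apply, smul_eq_mul,
        hn, o1, o2, o3, o4, o5, o6, p1, p2, p3, p4, p5, p6]
      ring
    have q2 : B x (μ x) = t ^ 2 + B U U + B W W - B w w := by
      rw [hμ, hx]
      simp only [map_add, map_sub, map_smul, LinearMap.add_apply, LinearMap.smul_apply, smul_eq_mul,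
        hn, o1, o2, o3, o4, o5, o6, p1, p2, p3, p4, p5, p6]
      ring
    have q3 : B x (m a x) = t ^ 2 + B W W / 4 + B w w / 32 := by
      rw [hx]
      simp only [map_add, map_smul, map_zero, LinearMap.add_apply, LinearMap.smul_apply, smul_eq_mul,
        axis_idem hp, hu, hv, hw, hn, o1, o2, o3, o4, o5, o6, p1, p2, p3, p4, p5, p6]
      ring
    have hWW : B W W = 4 * t - 4 * t ^ 2 - (1 - B x (μ x)) / 16 := by linarith
    rw [hA.assoc, hv, map_smul, LinearMap.smul_apply, smul_eq_mul, hWW] at hc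
    rw [← e, map_add, map_smul, axis_idem hp, hz, add_zero, hc]
    congr 1
    ring

/-- A Miyamoto map is determined by its axis, also after transport by an automorphism. -/
theorem mu_transport {μ' φ : V ≃ₗ[ℝ] V} {a' : V} (hp : IsMajoranaPair m B μ a)
    (hp' : IsMajoranaPair m B μ' a') (hφ : ∀ u v, φ (m u v) = m (φ u) (φ v)) (ha : φ a = a') :
    φ * μ * φ⁻¹ = μ' := by
  refine LinearEquiv.ext fun x => ?_
  obtain ⟨-, -, htop, -⟩ := hp'.2.2.1.1
  have key : eigenSum m a' majoranaSpectrum ≤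
      LinearMap.eqLocus ((φ * μ * φ⁻¹ : V ≃ₗ[ℝ] V) : V →ₗ[ℝ] V) (μ' : V →ₗ[ℝ] V) := by
    refine iSup₂_le fun c hc z hz => ?_
    show φ (μ (φ.symm z)) = μ' z
    have hz' : φ.symm z ∈ eigen m a c := by
      rw [mem_eigen] at hz ⊢
      apply φ.injective
      rw [hφ, map_smul, ha, LinearEquiv.apply_symm_apply, hz]
    have fixes : c ∈ ({1, 0, 1 / 4} : Set ℝ) → φ (μ (φ.symm z)) = μ' z := fun h => by
      rw [show μ (φ.symm z) = φ.symm z from hp.2.2.2.1 _
          ((le_iSup₂ (f := fun c _ => eigen m a c) c h) hz'),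
        show μ' z = z from hp'.2.2.2.1 _ ((le_iSup₂ (f := fun c _ => eigen m a' c) c h) hz),
        LinearEquiv.apply_symm_apply]
    rcases hc with rfl | rfl | rfl | rfl
    · exact fixes (by simp)
    · exact fixes (by simp)
    · exact fixes (by simp)
    · rw [show μ (φ.symm z) = -φ.symm z from hp.2.2.2.2 _ hz',
        show μ' z = -z from hp'.2.2.2.2 _ hz, map_neg, LinearEquiv.apply_symm_apply]
  exact key (htop ▸ Submodule.mem_top : x ∈ eigenSum m a' majoranaSpectrum)

end CfsgLib.Sakuma
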