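import Mathlib

set_option autoImplicit false

/-!
The nine solutions of the polynomial system of two Majorana axes (owner: helper28).
-/

namespace CfsgLib.Sakuma

/-- The third inner product. -/
noncomputable def tVal (L E : ℝ) : ℝ := (-32768 / 7) * L ^ 3 + (36864 / 7) * L ^ 2 + (-1920 / 7) * L * E + (-2169 / 7) * L + (-33 / 7) * E + (33 / 7)

/-- The fourth inner product. -/
noncomputable def uVal (L E : ℝ) : ℝ := (8388608 / 7) * L ^ 4 + (-9601024 / 7) * L ^ 3 + (65536) * L ^ 2 * E + (110592) * L ^ 2 + (-640 / 7) * L * E + (-19840 / 7) * L + (-128 / 7) * E ^ 2 + (-3) * E + (156 / 7)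

/-- The fifth inner product. -/
noncomputable def fiveVal (L E : ℝ) : ℝ := (-13958643712 / 49) * L ^ 5 + (16273899520 / 49) * L ^ 4 + (-754974720 / 49) * L ^ 3 * E + (-1633419264 / 49) * L ^ 3 + (12582912 / 49) * L ^ 2 * E + (8683520 / 7) * L ^ 2 + (475136 / 49) * L * E ^ 2 + (259584 / 49) * L * E + (-137721 / 7) * L + (-256 / 49) * E ^ 2 + (-5256 / 49) * E + (5512 / 49)

/-- The sixth inner product. -/
noncomputable def sixVal (L E : ℝ) : ℝ := (3298534883328 / 49) * L ^ 6 + (-3917010173952 / 49) * L ^ 5 + (177167400960 / 49) * L ^ 4 * E + (469669773312 / 49) * L ^ 4 + (-5511315456 / 49) * L ^ 3 * E + (-23158751232 / 49) * L ^ 3 + (-25165824 / 7) * L ^ 2 * E ^ 2 + (-91029504 / 49) * L ^ 2 * E + (573394944 / 49) * L ^ 2 + (2457600 / 49) * L * E ^ 2 + (6657408 / 49) * L * E + (-1019520 / 7) * L + (16384 / 49) * E ^ 3 + (22656 / 49) * E ^ 2 + (-74556 / 49) * E + (35565 / 49)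

theorem solve {L E : ℝ} (hf : (16384) * L ^ 4 + (-18176) * L ^ 3 + (320) * L ^ 2 * E + (1440) * L ^ 2 + (139 / 2) * L * E + (-75 / 2) * L + (1) * E ^ 2 + (-167 / 128) * E + (39 / 128) = 0)
    (he : (1811939328 / 49) * L ^ 5 + (-2030043136 / 49) * L ^ 4 + (47185920 / 49) * L ^ 3 * E + (171216896 / 49) * L ^ 3 + (4532224 / 49) * L ^ 2 * E + (-714240 / 7) * L ^ 2 + (156672 / 49) * L * E ^ 2 + (-42320 / 49) * L * E + (1104) * L + (1304 / 49) * E ^ 2 + (-9223 / 392) * E + (-1209 / 392) = 0) :
    L = 1 ∨ E = 1 ∨ tVal L E = 1 ∨ uVal L E = 1 ∨ fiveVal L E = 1 ∨ sixVal L E = 1 := by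
  have hlin : (-754974720 / 49) * L ^ 5 + (796262400 / 49) * L ^ 4 + (-2949120 / 49) * L ^ 3 * E + (-30689280 / 49) * L ^ 3 + (-138240) * L ^ 2 * E + (-1002240 / 49) * L ^ 2 + (71460 / 49) * L * E + (55260 / 49) * L + (8775 / 784) * E + (-8775 / 784) = 0 := by
    linear_combination he - ((156672 / 49) * L + (1304 / 49)) * hf
  have hres : (L - (0)) * (L - (1)) * (L - (1 / 8)) * (L - (1 / 64)) ^ 2 * (L - (1 / 32)) * (L - (13 / 256)) * (L - (3 / 128)) * (L - (5 / 256)) = 0 := by
    linear_combination ((-49 / 35624176739942400)) * ((-2949120 / 49) * L ^ 3 + (-138240) * L ^ 2 + (71460 / 49) * L + (8775 / 784)) ^ 2 * hf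
      - ((-49 / 35624176739942400)) * (((-2949120 / 49) * L ^ 3 + (-138240) * L ^ 2 + (71460 / 49) * L + (8775 / 784)) * E - ((-754974720 / 49) * L ^ 5 + (796262400 / 49) * L ^ 4 + (-30689280 / 49) * L ^ 3 + (-1002240 / 49) * L ^ 2 + (55260 / 49) * L + (-8775 / 784)) + ((320) * L ^ 2 + (139 / 2) * L + (-167 / 128)) * ((-2949120 / 49) * L ^ 3 + (-138240) * L ^ 2 + (71460 / 49) * L + (8775 / 784))) * hlin
  simp only [mul_eq_zero, pow_eq_zero_iff two_ne_zero, sub_eq_zero] at hres
  rcases hres with ((((((rfl | rfl) | rfl) | rfl) | rfl) | rfl) | rfl) | rfl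
  · obtain rfl : E = (1) := by linear_combination ((784 / 8775)) * hlin
    right; left; rfl
  · left; rfl
  · obtain rfl : E = (1) := by linear_combination ((-16 / 33345)) * hlin
    right; left; rfl
  · have h2 : (E - (1 / 8)) * (E - (1 / 64)) = 0 := by linear_combination hf
    simp only [mul_eq_zero, sub_eq_zero] at h2
    rcases h2 with rfl | rfl
    · right; right; right; left; norm_num [uVal]
    · right; right; left; norm_num [tVal]
  · obtain rfl : E = (0) := by linear_combination ((-784 / 62775)) * hlin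
    right; right; right; left; norm_num [uVal]
  · obtain rfl : E = (13 / 256) := by linear_combination ((-1792 / 500175)) * hlin
    right; right; left; norm_num [tVal]
  · obtain rfl : E = (3 / 128) := by linear_combination ((-56 / 1755)) * hlin
    right; right; right; right; left; norm_num [fiveVal]
  · obtain rfl : E = (13 / 256) := by linear_combination ((-12544 / 169425)) * hlin
    right; right; right; right; right; norm_num [sixVal]

end CfsgLib.Sakuma
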