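import Cfsg.Agent.Lib.Sakuma.Pair
import Cfsg.Agent.Lib.Sakuma.Solve

set_option autoImplicit false
set_option linter.unusedSimpArgs false
set_option maxHeartbeats 1000000

/-!
Sakuma's bound on the product of two Majorana involutions (owner: helper28).
-/

namespace CfsgLib.Sakuma

open Cfsg.Axial

variable {V : Type*} [AddCommGroup V] [Module ℝ V] {m : V →ₗ[ℝ] V →ₗ[ℝ] V} {B : LinearMap.BilinForm ℝ V}
  {μ ν : V ≃ₗ[ℝ] V} {a b : V}

theorem z_eq (P : Pair m B μ ν a b) : ν (μ b) = (((32768 / 7) * (B a b) ^ 2 + (-2304 / 7) * (B a b) + (128 / 7) * (B b (μ b)) + (33 / 7)) : ℝ) • a + (((-32768 / 7) * (B a b) ^ 2 + (2304 / 7) * (B a b) + (-128 / 7) * (B a (ν a)) + (-33 / 7)) : ℝ) • b + (((256) * (B a b) + (-6)) : ℝ) • μ b + (((-32)) : ℝ) • sg m a (ν a) + (((-256) * (B a b) + (6)) : ℝ) • ν a + (((1)) : ℝ) • μ (ν a) + (((32)) : ℝ) • sg m b (μ b) := by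
  have h0 := P.sigma_sigma
  have h1 := P.symm.sigma_sigma
  rw [sg_comm P.amb b a, P.amb.symm b a] at h1
  linear_combination (norm := module) (-196608 / 49 : ℝ) • h1 - (-196608 / 49 : ℝ) • h0

theorem eq_of_inner (hA : Amb m B) {x y : V} (hx : B x x = 1) (hy : B y y = 1) (h : B x y = 1) :
    x = y := by
  by_contra hne
  have h0 := hA.pos (x - y) (sub_ne_zero.2 hne)
  simp only [map_sub, LinearMap.sub_apply, hA.symm y x, hx, hy, h] at h0
  linarith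

theorem inner_cases (P : Pair m B μ ν a b) :
    B a b = 1 ∨ B a (ν a) = 1 ∨ B a (ν (μ b)) = 1 ∨ B (μ (ν a)) (ν a) = 1 ∨
      B (μ (ν a)) (ν (μ b)) = 1 ∨ B (μ (ν (μ b))) (ν (μ b)) = 1 := by
  have hA := P.amb
  have sy := hA.symm
  have hz := z_eq P
  have n1 : B (μ b) (μ b) = 1 := by rw [P.pa.2.1, P.nb]
  have n2 : B (ν a) (ν a) = 1 := by rw [P.pb.2.1, P.na]
  have n3 : B (μ (ν a)) (μ (ν a)) = 1 := by rw [P.pa.2.1, n2]
  have nz : B (ν (μ b)) (ν (μ b)) = 1 := by rw [P.pb.2.1, n1]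
  obtain ⟨L, hL⟩ : ∃ t, B a b = t := ⟨_, rfl⟩
  obtain ⟨E, hE⟩ : ∃ t, B a (ν a) = t := ⟨_, rfl⟩
  obtain ⟨O, hO⟩ : ∃ t, B b (μ b) = t := ⟨_, rfl⟩
  obtain ⟨T, hT⟩ : ∃ t, B (μ b) (ν a) = t := ⟨_, rfl⟩
  obtain ⟨U, hU⟩ : ∃ t, B (μ (ν a)) (ν a) = t := ⟨_, rfl⟩
  have t1 := P.B_mb.trans hL
  have t2 := P.B_d.trans hE
  have t3 := P.B_bc.trans hL
  have t4 := P.B_mb_d.trans hL
  have t5 := P.B_b_d.trans hT
  have haz : B a (ν (μ b)) = T := by rw [P.symm.B_b_d, sy, hT]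
  have hcz : B (ν a) (ν (μ b)) = L := by rw [P.pb.2.1, t1]
  have s1 := P.B_sigma_a
  have s2 := P.B_sigma_b
  have s3 := P.B_sigma_mb
  have s4 := P.B_sigma_c
  have s5 := P.B_sigma_d
  have e1 := P.B_e_a
  have e2 := P.B_e_b
  have e3 := P.B_e_mb
  have e4 := P.B_e_c
  have e5 := P.B_e_d
  have o1 := P.symm.B_e_b
  have o2 := P.symm.B_e_mb
  have o3 := P.symm.B_e_a
  have o4 := P.symm.B_e_c
  have o5 : B (μ (ν a)) (sg m b (μ b)) = B (ν a) (sg m b (μ b)) := by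
    nth_rewrite 1 [← P.symm.fix_e.2]
    rw [P.pa.2.1]
  rw [P.amb.symm b a, hL, hO] at o1 o2
  rw [hO] at o3 o4
  rw [hL] at s1 s2 s3 s4 s5
  rw [hE] at e1 e4 e5
  rw [hE, hL] at e2 e3
  rw [o2] at o5
  have ss := P.B_sigma_sigma
  have se := P.B_sigma_e
  have ee := P.B_e_e
  have so := P.symm.B_sigma_e
  have oo := P.symm.B_e_e
  rw [sg_comm hA b a, P.amb.symm b a] at so
  have mo := P.mul_o
  have mbo := P.symm.mul_e
  have mbs := P.b_sigma
  rw [P.mul_sigma, hL] at ss se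
  rw [P.mul_e, hE] at ee
  rw [mbs, hL] at so
  rw [mbo, hO] at oo
  simp only [map_add, map_smul, LinearMap.add_apply, LinearMap.smul_apply, smul_eq_mul,
    sy b a, sy (μ b) a, sy (ν a) a, sy (μ (ν a)) a, sy (μ b) b, sy (ν a) b, sy (μ (ν a)) b,
    sy (ν a) (μ b), sy (μ (ν a)) (μ b), sy (ν a) (μ (ν a)), sy (μ b) (ν (μ b)),
    P.na, P.nb, n1, n2, n3, hL, hE, hO, hT, hU, t1, t2, t3, t4, t5,
    s1, s2, s3, s4, s5, e1, e2, e3, e4, e5, o1, o2, o3, o4, o5] at ss se ee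
  have hbz : B b (ν (μ b)) = O := by
    have h := P.pb.2.1 b (μ b)
    rw [map_axis P.pb, hO] at h
    exact h
  simp only [map_add, map_smul, LinearMap.add_apply, LinearMap.smul_apply, smul_eq_mul,
    sy b a, sy (μ b) a, sy (ν a) a, sy (μ (ν a)) a, sy (μ b) b, sy (ν a) b, sy (μ (ν a)) b,
    sy (ν a) (μ b), sy (μ (ν a)) (μ b), sy (ν a) (μ (ν a)),
    P.na, P.nb, n1, n2, n3, hL, hE, hO, hT, hU, t1, t2, t3, t4, t5, hbz,
    s1, s2, s3, s4, s5, e1, e2, e3, e4, e5, o1, o2, o3, o4, o5] at so oo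
  have eo : B (sg m a (ν a)) (sg m b (μ b)) =
      B (ν a) (m a (sg m b (μ b))) - (B a (sg m b (μ b)) + B (ν a) (sg m b (μ b))) / 32 := by
    nth_rewrite 1 [sg]
    rw [map_sub, map_smul, map_add, LinearMap.sub_apply, LinearMap.smul_apply, LinearMap.add_apply,
      hA.comm a (ν a), ← hA.assoc (ν a) a, smul_eq_mul]
    ring
  rw [mo, hL, hO] at eo
  simp only [map_add, map_smul, LinearMap.add_apply, LinearMap.smul_apply, smul_eq_mul,
    sy b a, sy (μ b) a, sy (ν a) a, sy (μ (ν a)) a, sy (μ b) b, sy (ν a) b, sy (μ (ν a)) b,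
    sy (ν a) (μ b), sy (μ (ν a)) (μ b), sy (ν a) (μ (ν a)),
    P.na, P.nb, n1, n2, n3, hL, hE, hO, hT, hU, t1, t2, t3, t4, t5,
    s1, s2, s3, s4, s5, e1, e2, e3, e4, e5, o1, o2, o3, o4, o5] at eo
  rw [hL, hE, hO] at hz
  have hEO : O = E := by
    have h : B a (m a (sg m b (μ b))) = B a (sg m b (μ b)) := by rw [hA.assoc, axis_idem P.pa]
    rw [mo, hL, hO] at h
    simp only [map_add, map_smul, LinearMap.add_apply, LinearMap.smul_apply, smul_eq_mul,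
      P.na, P.nb, hL, hE, hO, t1, t2, s1, e1, o1] at h
    linarith
  subst hEO
  have hT' : T = tVal L O := by
    have h := haz
    rw [hz] at h
    simp only [map_add, map_smul, LinearMap.add_apply, LinearMap.smul_apply, smul_eq_mul,
      P.na, P.nb, hL, hE, hO, t1, t2, s1, e1, o1] at h
    rw [tVal]
    linear_combination -h
  have hU' : U = uVal L O := by
    have h := hcz
    rw [hz] at h
    simp only [map_add, map_smul, LinearMap.add_apply, LinearMap.smul_apply, smul_eq_mul,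
      sy (ν a) a, sy (ν a) b, sy (ν a) (μ b), sy (ν a) (μ (ν a)),
      n2, hL, hE, hO, hT, hU, t3, s4, e4, o2] at h
    rw [hT', tVal] at h
    rw [uVal]
    linear_combination h
  have hW : B (μ b) (ν (μ b)) = U := by
    rw [hz]
    simp only [map_add, map_smul, LinearMap.add_apply, LinearMap.smul_apply, smul_eq_mul,
      sy (μ b) a, sy (μ b) b,
      n1, hL, hE, hO, hT, hU, t1, t4, s3, e3, o4]
    rw [hT', hU', tVal, uVal]
    ring
  rw [hW] at oo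
  have hzz := nz
  rw [hz] at hzz
  simp only [map_add, map_smul, LinearMap.add_apply, LinearMap.smul_apply, smul_eq_mul,
    sy b a, sy (μ b) a, sy (ν a) a, sy (μ (ν a)) a, sy (μ b) b, sy (ν a) b, sy (μ (ν a)) b,
    sy (ν a) (μ b), sy (μ (ν a)) (μ b), sy (ν a) (μ (ν a)),
    sy (sg m a b) a, sy (sg m a b) b, sy (sg m a b) (μ b), sy (sg m a b) (ν a), sy (sg m a b) (μ (ν a)),
    sy (sg m a (ν a)) a, sy (sg m a (ν a)) b, sy (sg m a (ν a)) (μ b), sy (sg m a (ν a)) (ν a),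
    sy (sg m a (ν a)) (μ (ν a)), sy (sg m a (ν a)) (sg m a b),
    sy (sg m b (μ b)) a, sy (sg m b (μ b)) b, sy (sg m b (μ b)) (μ b), sy (sg m b (μ b)) (ν a),
    sy (sg m b (μ b)) (μ (ν a)), sy (sg m b (μ b)) (sg m a b), sy (sg m b (μ b)) (sg m a (ν a)),
    P.na, P.nb, n1, n2, n3, hL, hE, hO, hT, hU, t1, t2, t3, t4, t5, ss, se, ee, so, oo, eo,
    s1, s2, s3, s4, s5, e1, e2, e3, e4, e5, o1, o2, o3, o4, o5] at hzz
  have hg : B (ν (μ b)) (m a (ν (μ b))) = T := by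
    rw [hA.comm a, hA.assoc, ← P.pb.1, P.mb_idem, sy, haz]
  rw [hz] at hg
  simp only [map_add, map_smul, LinearMap.add_apply, LinearMap.smul_apply, smul_eq_mul,
    P.mul_b, P.mul_mb, P.mul_c, P.mul_d, P.mul_sigma, P.mul_e, mo, axis_idem P.pa,
    sy b a, sy (μ b) a, sy (ν a) a, sy (μ (ν a)) a, sy (μ b) b, sy (ν a) b, sy (μ (ν a)) b,
    sy (ν a) (μ b), sy (μ (ν a)) (μ b), sy (ν a) (μ (ν a)),
    sy (sg m a b) a, sy (sg m a b) b, sy (sg m a b) (μ b), sy (sg m a b) (ν a), sy (sg m a b) (μ (ν a)),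
    sy (sg m a (ν a)) a, sy (sg m a (ν a)) b, sy (sg m a (ν a)) (μ b), sy (sg m a (ν a)) (ν a),
    sy (sg m a (ν a)) (μ (ν a)), sy (sg m a (ν a)) (sg m a b),
    sy (sg m b (μ b)) a, sy (sg m b (μ b)) b, sy (sg m b (μ b)) (μ b), sy (sg m b (μ b)) (ν a),
    sy (sg m b (μ b)) (μ (ν a)), sy (sg m b (μ b)) (sg m a b), sy (sg m b (μ b)) (sg m a (ν a)),
    P.na, P.nb, n1, n2, n3, hL, hE, hO, hT, hU, t1, t2, t3, t4, t5, ss, se, ee, so, oo, eo,
    s1, s2, s3, s4, s5, e1, e2, e3, e4, e5, o1, o2, o3, o4, o5] at hg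
  have h5 : B (μ (ν a)) (ν (μ b)) = fiveVal L O := by
    rw [hz]
    simp only [map_add, map_smul, LinearMap.add_apply, LinearMap.smul_apply, smul_eq_mul,
      sy (μ (ν a)) a, sy (μ (ν a)) b, sy (μ (ν a)) (μ b),
      n3, hU, hE, t2, t4, t5, s5, e5, o5]
    rw [hT', hU', tVal, uVal, fiveVal]
    ring
  have h6 : B (μ (ν (μ b))) (ν (μ b)) = sixVal L O := by
    have hm := congrArg μ hz
    simp only [map_add, map_smul, map_axis P.pa, mu_mu P.amb P.pa P.na, P.fix_sigma.1, P.fix_e.1,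
      P.symm.fix_e.2] at hm
    rw [hm, hz]
    simp only [map_add, map_smul, LinearMap.add_apply, LinearMap.smul_apply, smul_eq_mul,
      sy b a, sy (μ b) a, sy (ν a) a, sy (μ (ν a)) a, sy (μ b) b, sy (ν a) b, sy (μ (ν a)) b,
      sy (ν a) (μ b), sy (μ (ν a)) (μ b), sy (ν a) (μ (ν a)),
      sy (sg m a b) a, sy (sg m a b) b, sy (sg m a b) (μ b), sy (sg m a b) (ν a), sy (sg m a b) (μ (ν a)),
      sy (sg m a (ν a)) a, sy (sg m a (ν a)) b, sy (sg m a (ν a)) (μ b), sy (sg m a (ν a)) (ν a),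
      sy (sg m a (ν a)) (μ (ν a)), sy (sg m a (ν a)) (sg m a b),
      sy (sg m b (μ b)) a, sy (sg m b (μ b)) b, sy (sg m b (μ b)) (μ b), sy (sg m b (μ b)) (ν a),
      sy (sg m b (μ b)) (μ (ν a)), sy (sg m b (μ b)) (sg m a b), sy (sg m b (μ b)) (sg m a (ν a)),
      P.na, P.nb, n1, n2, n3, hL, hE, hO, hT, hU, t1, t2, t3, t4, t5, ss, se, ee, so, oo, eo,
      s1, s2, s3, s4, s5, e1, e2, e3, e4, e5, o1, o2, o3, o4, o5]
    rw [hT', hU', tVal, uVal, sixVal]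
    ring
  rw [hT', hU', tVal, uVal] at hzz hg
  rcases solve (L := L) (E := O) (by linear_combination (7 / 3072 : ℝ) * hzz)
      (by linear_combination hg) with h | h | h | h | h | h
  · exact Or.inl (hL.trans h)
  · exact Or.inr (Or.inl (hE.trans h))
  · exact Or.inr (Or.inr (Or.inl (haz.trans (hT'.trans h))))
  · exact Or.inr (Or.inr (Or.inr (Or.inl (hU.trans (hU'.trans h)))))
  · exact Or.inr (Or.inr (Or.inr (Or.inr (Or.inl (h5.trans h)))))
  · exact Or.inr (Or.inr (Or.inr (Or.inr (Or.inr (h6.trans h)))))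

theorem bound (P : Pair m B μ ν a b) : ∃ n : ℕ, 1 ≤ n ∧ n ≤ 6 ∧ (μ * ν) ^ n = 1 := by
  have hA := P.amb
  have i1 : μ * μ = 1 := LinearEquiv.ext fun x => mu_mu hA P.pa P.na x
  have i2 : ν * ν = 1 := LinearEquiv.ext fun x => mu_mu hA P.pb P.nb x
  have r1 : μ⁻¹ = μ := inv_eq_of_mul_eq_one_right i1
  have r2 : ν⁻¹ = ν := inv_eq_of_mul_eq_one_right i2
  have hom : ∀ φ ψ : V ≃ₗ[ℝ] V, (∀ u v, φ (m u v) = m (φ u) (φ v)) → (∀ u v, ψ (m u v) = m (ψ u) (ψ v)) →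
      ∀ u v, (φ * ψ) (m u v) = m ((φ * ψ) u) ((φ * ψ) v) := fun φ ψ h h' u v => by
    show φ (ψ (m u v)) = m (φ (ψ u)) (φ (ψ v))
    rw [h', h]
  have n1 : B (μ b) (μ b) = 1 := by rw [P.pa.2.1, P.nb]
  have n2 : B (ν a) (ν a) = 1 := by rw [P.pb.2.1, P.na]
  have n3 : B (μ (ν a)) (μ (ν a)) = 1 := by rw [P.pa.2.1, n2]
  have nz : B (ν (μ b)) (ν (μ b)) = 1 := by rw [P.pb.2.1, n1]
  have nz' : B (μ (ν (μ b))) (μ (ν (μ b))) = 1 := by rw [P.pa.2.1, nz]
  have hmn := hom _ _ P.pa.1 P.pb.1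
  have hnm := hom _ _ P.pb.1 P.pa.1
  rcases inner_cases P with h | h | h | h | h | h
  · refine ⟨1, le_refl _, by norm_num, ?_⟩
    have e := mu_transport P.pa P.pb (φ := 1) (fun _ _ => rfl) (eq_of_inner hA P.na P.nb h)
    rw [inv_one, mul_one, one_mul] at e
    rw [pow_one, ← e, i1]
  · refine ⟨2, by norm_num, by norm_num, ?_⟩
    have e := mu_transport P.pa P.pa P.pb.1 (eq_of_inner hA n2 P.na (by rw [hA.symm]; exact h))
    rw [r2] at e
    calc (μ * ν) ^ 2 = μ * (ν * μ * ν) := by simp only [pow_succ, pow_zero, one_mul, mul_assoc]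
      _ = 1 := by rw [e, i1]
  · refine ⟨3, by norm_num, by norm_num, ?_⟩
    have e := mu_transport P.pb P.pa hnm (eq_of_inner hA nz P.na (by rw [hA.symm]; exact h))
    rw [mul_inv_rev, r1, r2] at e
    calc (μ * ν) ^ 3 = μ * (ν * μ * ν * (μ * ν)) := by simp only [pow_succ, pow_zero, one_mul, mul_assoc]
      _ = 1 := by rw [e, i1]
  · refine ⟨4, by norm_num, by norm_num, ?_⟩
    have hfix : (ν * μ * ν) a = a := by
      show ν (μ (ν a)) = a
      rw [eq_of_inner hA n3 n2 h, mu_mu hA P.pb P.nb]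
    have e := mu_transport P.pa P.pa (hom _ _ hnm P.pb.1) hfix
    rw [mul_inv_rev, mul_inv_rev, r1, r2] at e
    calc (μ * ν) ^ 4 = μ * (ν * μ * ν * μ * (ν * (μ * ν))) := by
          simp only [pow_succ, pow_zero, one_mul, mul_assoc]
      _ = 1 := by rw [e, i1]
  · refine ⟨5, by norm_num, le_of_lt (by norm_num), ?_⟩
    have hmap : (ν * μ * (ν * μ)) b = a := by
      show ν (μ (ν (μ b))) = a
      rw [← eq_of_inner hA n3 nz h, mu_mu hA P.pa P.na, mu_mu hA P.pb P.nb]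
    have e := mu_transport P.pb P.pa (hom _ _ hnm hnm) hmap
    rw [mul_inv_rev, mul_inv_rev, r1, r2] at e
    calc (μ * ν) ^ 5 = μ * (ν * μ * (ν * μ) * ν * (μ * ν * (μ * ν))) := by
          simp only [pow_succ, pow_zero, one_mul, mul_assoc]
      _ = 1 := by rw [e, i1]
  · refine ⟨6, by norm_num, le_refl _, ?_⟩
    have hfix : (μ * ν * μ * (ν * μ)) b = b := by
      show μ (ν (μ (ν (μ b)))) = b
      rw [eq_of_inner hA nz' nz h, mu_mu hA P.pb P.nb, mu_mu hA P.pa P.na]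
    have e := mu_transport P.pb P.pb (hom _ _ (hom _ _ hmn P.pa.1) hnm) hfix
    rw [mul_inv_rev, mul_inv_rev, mul_inv_rev, mul_inv_rev, r1, r2] at e
    calc (μ * ν) ^ 6 = μ * ν * μ * (ν * μ) * ν * (μ * ν * (μ * (ν * μ))) * ν := by
          simp only [pow_succ, pow_zero, one_mul, mul_assoc]
      _ = 1 := by rw [e, i2]

end CfsgLib.Sakuma
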