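import Cfsg.Agent.Lib.Sakuma.Axis

set_option autoImplicit false
set_option linter.unusedSimpArgs false

/-!
Products and inner products attached to an ordered pair of Majorana axes (owner: helper28).
-/

namespace CfsgLib.Sakuma

open Cfsg.Axial

variable {V : Type*} [AddCommGroup V] [Module ℝ V] {m : V →ₗ[ℝ] V →ₗ[ℝ] V} {B : LinearMap.BilinForm ℝ V}
  {μ ν : V ≃ₗ[ℝ] V} {a b : V}

/-- The facts used about an ordered pair `a, b` of axes with involutions `μ, ν`. -/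
structure Pair (m : V →ₗ[ℝ] V →ₗ[ℝ] V) (B : LinearMap.BilinForm ℝ V) (μ ν : V ≃ₗ[ℝ] V) (a b : V) : Prop where
  amb : Amb m B
  pa : IsMajoranaPair m B μ a
  pb : IsMajoranaPair m B ν b
  na : B a a = 1
  nb : B b b = 1

namespace Pair

variable (P : Pair m B μ ν a b)
include P

theorem symm : Pair m B ν μ b a := ⟨P.amb, P.pb, P.pa, P.nb, P.na⟩

theorem isoB {φ : V ≃ₗ[ℝ] V} (h : φ = μ ∨ φ = ν) (x y : V) : B (φ x) (φ y) = B x y := by
  rcases h with rfl | rfl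
  · exact P.pa.2.1 x y
  · exact P.pb.2.1 x y

theorem fix_sigma : μ (sg m a b) = sg m a b ∧ ν (sg m a b) = sg m a b := by
  refine ⟨mu_sg P.amb P.pa P.na b, ?_⟩
  rw [sg_comm P.amb a b, mu_sg P.amb P.pb P.nb a]

theorem fix_e : μ (sg m a (ν a)) = sg m a (ν a) ∧ ν (sg m a (ν a)) = sg m a (ν a) := by
  refine ⟨mu_sg P.amb P.pa P.na _, ?_⟩
  rw [map_sg P.pb.1, mu_mu P.amb P.pb P.nb, sg_comm P.amb]

theorem mul_b : m a b = sg m a b + (1 / 32 : ℝ) • (a + b) := by rw [sg, sub_add_cancel]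

theorem mul_mb : m a (μ b) = sg m a b + (1 / 32 : ℝ) • (a + μ b) := by
  have h := P.pa.1 a b
  rw [map_axis P.pa] at h
  rw [← h, P.mul_b, map_add, P.fix_sigma.1, map_smul, map_add, map_axis P.pa]

theorem mul_c : m a (ν a) = sg m a (ν a) + (1 / 32 : ℝ) • (a + ν a) := by rw [sg, sub_add_cancel]

theorem mul_d : m a (μ (ν a)) = sg m a (ν a) + (1 / 32 : ℝ) • (a + μ (ν a)) := by
  have h := P.pa.1 a (ν a)
  rw [map_axis P.pa] at h
  rw [← h, P.mul_c, map_add, P.fix_e.1, map_smul, map_add, map_axis P.pa]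

theorem mul_sigma : m a (sg m a b) = (((31 * B a b - 1) / 32) + (1 / 8 - 4 * B a b) * (7 / 128)) • a
    + (7 / 32 : ℝ) • sg m a b + (7 / 2048 : ℝ) • (b + μ b) := mul_sg P.amb P.pa P.na b

theorem mul_e : m a (sg m a (ν a)) =
    (((31 * B a (ν a) - 1) / 32) + (1 / 8 - 4 * B a (ν a)) * (7 / 128)) • a
    + (7 / 32 : ℝ) • sg m a (ν a) + (7 / 2048 : ℝ) • (ν a + μ (ν a)) := mul_sg P.amb P.pa P.na (ν a)

theorem mb_idem : m (μ b) (μ b) = μ b := by rw [← P.pa.1, axis_idem P.pb]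

theorem b_sigma : m b (sg m a b) = (((31 * B a b - 1) / 32) + (1 / 8 - 4 * B a b) * (7 / 128)) • b
    + (7 / 32 : ℝ) • sg m a b + (7 / 2048 : ℝ) • (a + ν a) := by
  rw [sg_comm P.amb a b, P.symm.mul_sigma, P.amb.symm b a]

theorem mb_sigma : m (μ b) (sg m a b) = (((31 * B a b - 1) / 32) + (1 / 8 - 4 * B a b) * (7 / 128)) • μ b
    + (7 / 32 : ℝ) • sg m a b + (7 / 2048 : ℝ) • (a + μ (ν a)) := by
  nth_rewrite 1 [← P.fix_sigma.1]
  rw [← P.pa.1, P.b_sigma]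
  simp only [map_add, map_smul, map_axis P.pa, P.fix_sigma.1]

theorem mul_o_and_sigma_sigma :
    m a (sg m b (μ b)) = (((-32 / 3) * (B a b) ^ 2 + (5 / 3) * (B a b) + (-1 / 24) * (B b (μ b)) + (-127 / 3072)) : ℝ) • a + (((32 / 3) * (B a b) + (-19 / 48)) : ℝ) • sg m a b + (((1 / 6) * (B a b) + (-19 / 3072)) : ℝ) • b + (((1 / 6) * (B a b) + (-19 / 3072)) : ℝ) • μ b + (((7 / 96)) : ℝ) • sg m a (ν a) + (((7 / 6144)) : ℝ) • ν a + (((7 / 6144)) : ℝ) • μ (ν a) ∧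
    m (sg m a b) (sg m a b) = (((7 / 6) * (B a b) ^ 2 + (-7 / 384) * (B a b) + (7 / 1536) * (B b (μ b)) + (-7 / 98304)) : ℝ) • a + (((-5 / 12) * (B a b) + (-13 / 1536)) : ℝ) • sg m a b + (((49 / 768) * (B a b) + (-245 / 196608)) : ℝ) • b + (((49 / 768) * (B a b) + (-245 / 196608)) : ℝ) • μ b + (((-7 / 1536)) : ℝ) • sg m a (ν a) + (((49 / 196608)) : ℝ) • ν a + (((49 / 196608)) : ℝ) • μ (ν a) + (((7 / 2048)) : ℝ) • sg m b (μ b) := by
  obtain ⟨h1, h2, h3⟩ := fusion P.amb P.pa P.na b P.nb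
    (by rw [P.amb.comm a b, P.amb.assoc, axis_idem P.pb, P.amb.symm]) rfl rfl
  have ebb' : m b (μ b) = sg m b (μ b) + (1 / 32 : ℝ) • (b + μ b) := by rw [sg, sub_add_cancel]
  simp only [map_add, map_smul, LinearMap.add_apply, LinearMap.smul_apply, smul_add, smul_smul,
    axis_idem P.pa, axis_idem P.pb, P.mb_idem, P.mul_b, P.mul_mb, P.mul_c, P.mul_d, P.mul_sigma,
    P.amb.comm b a, P.amb.comm (μ b) a, P.amb.comm (sg m a b) a, P.amb.comm (sg m a b) b,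
    P.amb.comm (sg m a b) (μ b), P.amb.comm (μ b) b, P.b_sigma, P.mb_sigma, ebb'] at h1 h2 h3
  have hY : m a (sg m b (μ b)) = (((-32 / 3) * (B a b) ^ 2 + (5 / 3) * (B a b) + (-1 / 24) * (B b (μ b)) + (-127 / 3072)) : ℝ) • a + (((32 / 3) * (B a b) + (-19 / 48)) : ℝ) • sg m a b + (((1 / 6) * (B a b) + (-19 / 3072)) : ℝ) • b + (((1 / 6) * (B a b) + (-19 / 3072)) : ℝ) • μ b + (((7 / 96)) : ℝ) • sg m a (ν a) + (((7 / 6144)) : ℝ) • ν a + (((7 / 6144)) : ℝ) • μ (ν a) := by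
    linear_combination (norm := module) (8 / 3 : ℝ) • h1 - (8 / 3 : ℝ) • h3
  refine ⟨hY, ?_⟩
  linear_combination (norm := module) (1 / 4 : ℝ) • h2 + (1 / 4 : ℝ) • h3 - (1 / 64 : ℝ) • hY

theorem mul_o : m a (sg m b (μ b)) = (((-32 / 3) * (B a b) ^ 2 + (5 / 3) * (B a b) + (-1 / 24) * (B b (μ b)) + (-127 / 3072)) : ℝ) • a + (((32 / 3) * (B a b) + (-19 / 48)) : ℝ) • sg m a b + (((1 / 6) * (B a b) + (-19 / 3072)) : ℝ) • b + (((1 / 6) * (B a b) + (-19 / 3072)) : ℝ) • μ b + (((7 / 96)) : ℝ) • sg m a (ν a) + (((7 / 6144)) : ℝ) • ν a + (((7 / 6144)) : ℝ) • μ (ν a) := P.mul_o_and_sigma_sigma.1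

theorem sigma_sigma : m (sg m a b) (sg m a b) = (((7 / 6) * (B a b) ^ 2 + (-7 / 384) * (B a b) + (7 / 1536) * (B b (μ b)) + (-7 / 98304)) : ℝ) • a + (((-5 / 12) * (B a b) + (-13 / 1536)) : ℝ) • sg m a b + (((49 / 768) * (B a b) + (-245 / 196608)) : ℝ) • b + (((49 / 768) * (B a b) + (-245 / 196608)) : ℝ) • μ b + (((-7 / 1536)) : ℝ) • sg m a (ν a) + (((49 / 196608)) : ℝ) • ν a + (((49 / 196608)) : ℝ) • μ (ν a) + (((7 / 2048)) : ℝ) • sg m b (μ b) := P.mul_o_and_sigma_sigma.2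

theorem B_sym_b : B b a = B a b := P.amb.symm b a

theorem B_mb : B a (μ b) = B a b := by
  have h := P.pa.2.1 a b
  rwa [map_axis P.pa] at h

theorem B_d : B a (μ (ν a)) = B a (ν a) := by
  have h := P.pa.2.1 a (ν a)
  rwa [map_axis P.pa] at h

theorem B_bc : B b (ν a) = B a b := by rw [P.symm.B_mb, P.B_sym_b]

theorem B_mb_d : B (μ b) (μ (ν a)) = B a b := by rw [P.pa.2.1, P.B_bc]

theorem B_b_d : B b (μ (ν a)) = B (μ b) (ν a) := by
  rw [← P.pa.2.1 b, mu_mu P.amb P.pa P.na]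

theorem B_sigma_a : B a (sg m a b) = B a b - (1 + B a b) / 32 := by
  rw [sg, map_sub, map_smul, map_add, P.amb.assoc, axis_idem P.pa, P.na, smul_eq_mul]
  ring

theorem B_sigma_b : B b (sg m a b) = B a b - (1 + B a b) / 32 := by
  rw [sg_comm P.amb a b, P.symm.B_sigma_a, P.B_sym_b]

theorem B_sigma_mb : B (μ b) (sg m a b) = B a b - (1 + B a b) / 32 := by
  nth_rewrite 1 [← P.fix_sigma.1]
  rw [P.pa.2.1, P.B_sigma_b]

theorem B_sigma_c : B (ν a) (sg m a b) = B a b - (1 + B a b) / 32 := by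
  nth_rewrite 1 [← P.fix_sigma.2]
  rw [P.pb.2.1, P.B_sigma_a]

theorem B_sigma_d : B (μ (ν a)) (sg m a b) = B a b - (1 + B a b) / 32 := by
  nth_rewrite 1 [← P.fix_sigma.1]
  rw [P.pa.2.1, P.B_sigma_c]

theorem B_e_a : B a (sg m a (ν a)) = B a (ν a) - (1 + B a (ν a)) / 32 := by
  rw [sg, map_sub, map_smul, map_add, P.amb.assoc, axis_idem P.pa, P.na, smul_eq_mul]
  ring

theorem B_e_c : B (ν a) (sg m a (ν a)) = B a (ν a) - (1 + B a (ν a)) / 32 := by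
  nth_rewrite 1 [← P.fix_e.2]
  rw [P.pb.2.1, P.B_e_a]

theorem B_e_d : B (μ (ν a)) (sg m a (ν a)) = B a (ν a) - (1 + B a (ν a)) / 32 := by
  nth_rewrite 1 [← P.fix_e.1]
  rw [P.pa.2.1, P.B_e_c]

theorem B_e_b : B b (sg m a (ν a)) =
    (B a b - (1 + B a b) / 32) + (B a (ν a) + B a b) / 32 - B a b / 16 := by
  rw [sg, map_sub, map_smul, map_add, P.amb.assoc, P.amb.comm b a, P.mul_b]
  simp only [map_add, map_smul, LinearMap.add_apply, LinearMap.smul_apply, smul_eq_mul,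
    P.amb.symm (sg m a b) (ν a), P.B_sigma_c, P.B_bc, P.B_sym_b]
  ring

theorem B_e_mb : B (μ b) (sg m a (ν a)) =
    (B a b - (1 + B a b) / 32) + (B a (ν a) + B a b) / 32 - B a b / 16 := by
  nth_rewrite 1 [← P.fix_e.1]
  rw [P.pa.2.1, P.B_e_b]

theorem B_sigma_sigma : B (sg m a b) (sg m a b) =
    B b (m a (sg m a b)) - (B a b - (1 + B a b) / 32) / 16 := by
  nth_rewrite 1 [sg]
  rw [map_sub, map_smul, map_add, LinearMap.sub_apply, LinearMap.smul_apply, LinearMap.add_apply,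
    P.B_sigma_a, P.B_sigma_b, P.amb.comm a b, ← P.amb.assoc b a, smul_eq_mul]
  ring

theorem B_sigma_e : B (sg m a b) (sg m a (ν a)) =
    B (ν a) (m a (sg m a b)) - (B a b - (1 + B a b) / 32) / 16 := by
  rw [P.amb.symm]
  nth_rewrite 1 [sg]
  rw [map_sub, map_smul, map_add, LinearMap.sub_apply, LinearMap.smul_apply, LinearMap.add_apply,
    P.B_sigma_a, P.B_sigma_c, P.amb.comm a (ν a), ← P.amb.assoc (ν a) a, smul_eq_mul]
  ring

theorem B_e_e : B (sg m a (ν a)) (sg m a (ν a)) =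
    B (ν a) (m a (sg m a (ν a))) - (B a (ν a) - (1 + B a (ν a)) / 32) / 16 := by
  nth_rewrite 1 [sg]
  rw [map_sub, map_smul, map_add, LinearMap.sub_apply, LinearMap.smul_apply, LinearMap.add_apply,
    P.B_e_a, P.B_e_c, P.amb.comm a (ν a), ← P.amb.assoc (ν a) a, smul_eq_mul]
  ring

end Pair

end CfsgLib.Sakuma
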